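import Mathlib

/-! Involutions of `A₅`: finite checks. -/

set_option autoImplicit false

namespace CfsgLib.E6

section
set_option maxRecDepth 100000
open Equiv

theorem a5_four : ∀ x : Perm (Fin 5), x * x * (x * x) = 1 → Perm.sign x = 1 → x * x = 1 := by
  decide +kernel

theorem a5_five : ∀ x : Perm (Fin 5), x * x = 1 → x ≠ 1 → Perm.sign x = 1 →
    ∃ y : Perm (Fin 5), (y * x * y⁻¹ * x⁻¹) ^ 5 = 1 ∧ y * x * y⁻¹ * x⁻¹ ≠ 1 ∧ y ^ 5 = 1 ∧ y ≠ 1 ∧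
      Perm.sign y = 1 := by
  decide +kernel

theorem a5_three : ∀ x : Perm (Fin 5), x * x = 1 → x ≠ 1 → Perm.sign x = 1 →
    ∃ t : Perm (Fin 5), t * x ≠ x * t ∧ Perm.sign t = 1 ∧ ∀ y : Perm (Fin 5), y * x = x * y →
      Perm.sign y = 1 → y * y = 1 ∧ t * y * t⁻¹ * x = x * (t * y * t⁻¹) := by
  decide +kernel
end

end CfsgLib.E6
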