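import Cfsg.Agent.Lib.CIT.Basic
import Cfsg.Agent.Lib.SE.Free

/-!
# Groups all of whose elements have order at most six: definitions and basic facts
-/

set_option autoImplicit false

namespace CfsgLib.E6

open Subgroup Cfsg CfsgLib.FT.BGN CfsgLib.Cit CfsgLib.H1

universe u

/-- All elements have order at most six. -/
def O6 (G : Type*) [Group G] : Prop := ∀ g : G, orderOf g ≤ 6

/-- `X` is `A₅` or `A₆`. -/
def K56 (X : Type*) [Group X] : Prop :=
  Nonempty (X ≃* alternatingGroup (Fin 5)) ∨ Nonempty (X ≃* alternatingGroup (Fin 6))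

/-- The simple `O6` groups of order less than `n` are known. -/
def AK (n : ℕ) : Prop := ∀ (X : Type u) [Group X] [Finite X], IsSimpleGroup X →
  ¬ IsMulCommutative X → O6 X → Nat.card X < n → K56 X

/-- The inductive situation. -/
structure Ctx (G : Type u) [Group G] : Prop where
  simple : IsSimpleGroup G
  na : ¬ IsMulCommutative G
  o6 : O6 G
  ih : AK.{u} (Nat.card G)

variable {G : Type*} [Group G]

/-- The configurations in which a simple `O6` group is identified by a known theorem. -/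
def End (G : Type*) [Group G] : Prop :=
  (∃ M : Subgroup G, IsStronglyEmbedded M) ∨ CIT G ∨
  (∃ a b : G, a * a = 1 ∧ b * b = 1 ∧ IsSylowIn 2 (zpowers a ⊔ zpowers b) ⊤) ∨
  ∃ S : Subgroup G, IsSylowIn 2 S ⊤ ∧ IsMulCommutative S

/-- All `2`-local subgroups have characteristic two. -/
def Ch2 (G : Type*) [Group G] : Prop :=
  ∀ U : Subgroup G, IsPGroup 2 U → U ≠ ⊥ → 𝐂(pCoreOf 2 𝐍(U)) ≤ pCoreOf 2 𝐍(U)

/-- A minimal parabolic `P = T ⊔ zpowers x` over `T` with `P / Q` dihedral of order `2 r`. -/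
structure Pb (T Q : Subgroup G) (x u : G) (r : ℕ) : Prop where
  two : IsPGroup 2 T
  le : Q ≤ T
  idx : Q.relIndex T = 2
  um : u ∈ T
  un : u ∉ Q
  ox : orderOf x = r
  r35 : r = 3 ∨ r = 5
  xn : x ∈ 𝐍(Q)
  inv : u * x * u⁻¹ = x⁻¹
  ch : 𝐂(Q) ≤ Q

/-- `H / Q ≅ A₅` with `Q` a self-centralizing elementary abelian `2`-group. -/
structure NS (H Q : Subgroup G) : Prop where
  le : Q ≤ H
  sq : ∀ q ∈ Q, q * q = 1
  ch : 𝐂(Q) ≤ Q
  ex : ∃ f : H →* alternatingGroup (Fin 5), Function.Surjective f ∧ ∀ h : H, f h = 1 ↔ (h : G) ∈ Q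

/-- A pair of parabolics over `T` with no common normal subgroup. -/
def NoN (T : Subgroup G) (x y : G) : Prop :=
  ∀ N ≤ T, T ≤ 𝐍(N) → x ∈ 𝐍(N) → y ∈ 𝐍(N) → N = ⊥

theorem NoN.symm {T : Subgroup G} {x y : G} (h : NoN T x y) : NoN T y x :=
  fun N a b c d => h N a b d c

namespace O6

theorem of_injective {X : Type*} [Group X] (h : O6 G) (f : X →* G) (hf : Function.Injective f) :
    O6 X := fun x => orderOf_injective f hf x ▸ h (f x)

theorem subgroup (h : O6 G) (H : Subgroup G) : O6 H := h.of_injective H.subtype H.subtype_injective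

variable [Finite G] (h : O6 G)
include h

theorem of_surjective {X : Type*} [Group X] (f : G →* X) (hf : Function.Surjective f) : O6 X :=
  fun x => by
    obtain ⟨g, rfl⟩ := hf x
    exact (Nat.le_of_dvd (orderOf_pos g) (orderOf_map_dvd f g)).trans (h g)

theorem quot (N : Subgroup G) [N.Normal] : O6 (G ⧸ N) :=
  h.of_surjective (QuotientGroup.mk' N) (QuotientGroup.mk'_surjective N)

theorem cases (g : G) : orderOf g = 1 ∨ orderOf g = 2 ∨ orderOf g = 3 ∨ orderOf g = 4 ∨
    orderOf g = 5 ∨ orderOf g = 6 := by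
  have := h g
  have := orderOf_pos g
  omega

/-- `2`-elements have order dividing four. -/
theorem four_of_two {g : G} (hg : Two g) : g * g * (g * g) = 1 := by
  obtain ⟨k, hk⟩ := (IsPGroup.iff_card (p := 2)).1 hg
  rw [Nat.card_zpowers] at hk
  have h1 := h g
  have h2 : k ≤ 2 := by
    by_contra h3
    have : 2 ^ 3 ≤ 2 ^ k := Nat.pow_le_pow_right (by norm_num) (by omega)
    omega
  have : g ^ 4 = 1 := orderOf_dvd_iff_pow_eq_one.1
    (hk ▸ (Nat.pow_dvd_pow 2 h2 : 2 ^ k ∣ 2 ^ 2))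
  rw [← this]; simp only [pow_succ, pow_zero, one_mul, mul_assoc]

theorem four {T : Subgroup G} (hT : IsPGroup 2 T) {g : G} (hg : g ∈ T) : g * g * (g * g) = 1 :=
  h.four_of_two (two_of_mem hT hg)

/-- commuting elements of coprime orders -/
theorem mul_le {x y : G} (hc : x * y = y * x) (ho : (orderOf x).Coprime (orderOf y)) :
    orderOf x * orderOf y ≤ 6 :=
  (Commute.orderOf_mul_eq_mul_orderOf_of_coprime hc ho) ▸ h (x * y)

theorem order_two {g : G} (hg : Two g) : orderOf g = 1 ∨ orderOf g = 2 ∨ orderOf g = 4 := by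
  have h1 : orderOf g ∣ 4 := orderOf_dvd_of_pow_eq_one (by
    rw [← h.four_of_two hg]; simp only [pow_succ, pow_zero, one_mul, mul_assoc])
  have h2 : orderOf g ∈ Nat.divisors 4 := Nat.mem_divisors.2 ⟨h1, by norm_num⟩
  simpa [show Nat.divisors 4 = {1, 2, 4} by decide] using h2

/-- A `2`-element commuting with an element of order three has square one. -/
theorem sq_of_comm3 {x y : G} (hx : orderOf x = 3) (hy : Two y) (hc : x * y = y * x) :
    y * y = 1 := by
  rcases h.order_two hy with e | e | e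
  · rw [orderOf_eq_one_iff.1 e, mul_one]
  · rw [← pow_two, ← e, pow_orderOf_eq_one]
  · have := h.mul_le hc (by rw [hx, e]; norm_num)
    rw [hx, e] at this; omega

/-- A `2`-element commuting with an element of order five is trivial. -/
theorem eq_one_of_comm5 {x y : G} (hx : orderOf x = 5) (hy : Two y) (hc : x * y = y * x) :
    y = 1 := by
  rcases h.order_two hy with e | e | e
  · exact orderOf_eq_one_iff.1 e
  all_goals
    have := h.mul_le hc (by rw [hx, e]; norm_num)
    rw [hx, e] at this; omega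

theorem pow_five_of_comm5 {x y : G} (hx : orderOf x = 5) (hc : x * y = y * x) : y ^ 5 = 1 := by
  rcases h.cases y with e | e | e | e | e | e
  · rw [orderOf_eq_one_iff.1 e, one_pow]
  all_goals first
    | (rw [← e, pow_orderOf_eq_one])
    | (have := h.mul_le hc (by rw [hx, e]; norm_num); rw [hx, e] at this; omega)

theorem odd_cases {y : G} (hy : Odd (orderOf y)) : y = 1 ∨ orderOf y = 3 ∨ orderOf y = 5 := by
  rcases h.cases y with e | e | e | e | e | e
  · exact Or.inl (orderOf_eq_one_iff.1 e)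
  all_goals first
    | exact Or.inr (Or.inl e)
    | exact Or.inr (Or.inr e)
    | (rw [e] at hy; exact absurd hy (by decide))

theorem prime_cases {p : ℕ} (hp : p.Prime) (hd : p ∣ Nat.card G) : p = 2 ∨ p = 3 ∨ p = 5 := by
  have := Fact.mk hp
  obtain ⟨g, hg⟩ := exists_prime_orderOf_dvd_card' p hd
  have h1 := h g
  rw [hg] at h1
  have := hp.two_le
  interval_cases p <;> first | exact absurd hp (by decide) | simp

theorem pow_of_pgroup {p : ℕ} (hp : p = 3 ∨ p = 5) {R : Subgroup G} (hR : IsPGroup p R) {g : G}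
    (hg : g ∈ R) : g ^ p = 1 := by
  have : Fact p.Prime := ⟨by rcases hp with rfl | rfl <;> norm_num⟩
  obtain ⟨k, hk⟩ := (IsPGroup.iff_card (p := p)).1 (hR.to_le (zpowers_le.2 hg))
  rw [Nat.card_zpowers] at hk
  have h1 := h g
  have h2 : k ≤ 1 := by
    by_contra h3
    have : p ^ 2 ≤ p ^ k := Nat.pow_le_pow_right (by omega) (by omega)
    rcases hp with rfl | rfl <;> omega
  exact orderOf_dvd_iff_pow_eq_one.1 (by
    rw [hk]; exact (Nat.pow_dvd_pow p h2).trans (by rw [pow_one]))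

theorem cit (h3 : ∀ t y : G, t * t = 1 → t ≠ 1 → t * y = y * t → orderOf y ≠ 3) : CIT G :=
  fun t y a b c d => by
    rcases h.odd_cases d with e | e | e
    · exact e
    · exact absurd e (h3 t y a b c)
    · exact absurd (h.eq_one_of_comm5 e (two_of_sq a) c.symm) b

end O6

namespace Pb

variable {T Q : Subgroup G} {x u : G} {r : ℕ} (h : Pb T Q x u r)
include h

theorem mul_mem_iff {a b : G} (ha : a ∈ T) (hb : b ∈ T) : a * b ∈ Q ↔ (a ∈ Q ↔ b ∈ Q) :=
  (mul_mem_iff_of_index_two (H := Q.subgroupOf T) h.idx (a := ⟨a, ha⟩) (b := ⟨b, hb⟩) :)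

theorem mul_mem {a b : G} (ha : a ∈ T) (ha' : a ∉ Q) (hb : b ∈ T) (hb' : b ∉ Q) : a * b ∈ Q :=
  (h.mul_mem_iff ha hb).2 (iff_of_false ha' hb')

theorem sq_mem {a : G} (ha : a ∈ T) : a * a ∈ Q := (h.mul_mem_iff ha ha).2 Iff.rfl

theorem mul_notMem {q a : G} (hq : q ∈ Q) (ha : a ∉ Q) : q * a ∉ Q :=
  fun e => ha ((Q.mul_mem_cancel_left hq).1 e)

theorem mul_inv_mem {a b : G} (ha : a ∈ T) (ha' : a ∉ Q) (hb : b ∈ T) (hb' : b ∉ Q) :
    a * b⁻¹ ∈ Q := h.mul_mem ha ha' (inv_mem hb) (by simpa using hb')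

theorem conj_mem {a q : G} (ha : a ∈ T) (hq : q ∈ Q) : a * q * a⁻¹ ∈ Q := by
  rw [h.mul_mem_iff (T.mul_mem ha (h.le hq)) (inv_mem ha), h.mul_mem_iff ha (h.le hq), inv_mem_iff]
  tauto

theorem tn [Finite G] : T ≤ 𝐍(Q) := le_normalizer_iff.2 fun _ ha _ hq => h.conj_mem ha hq

theorem twoQ : IsPGroup 2 Q := h.two.to_le h.le

theorem xpow : x ^ r = 1 := h.ox ▸ pow_orderOf_eq_one x

theorem odd : Odd (orderOf x) := by rw [h.ox]; rcases h.r35 with rfl | rfl <;> decide

theorem x_ne : x ≠ 1 := fun e => by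
  have := h.ox
  rw [e, orderOf_one] at this
  rcases h.r35 with rfl | rfl <;> omega

theorem x_notMem [Finite G] : x ∉ T := fun e =>
  h.x_ne (eq_one_of_two_of_odd (two_of_mem h.two e) h.odd)

theorem xmem {q : G} (hq : q ∈ Q) : x * q * x⁻¹ ∈ Q := cmem h.xn hq

theorem xmem' {q : G} (hq : q ∈ Q) : x⁻¹ * q * x ∈ Q := by
  simpa using cmem (inv_mem h.xn) hq

/-- `x` does not centralize `Q`. -/
theorem not_cent [Finite G] : x ∉ 𝐂(Q) := fun e => h.x_notMem (h.le (h.ch e))

theorem ne_bot [Finite G] : Q ≠ ⊥ := fun e => h.not_cent (by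
  rw [e, mem_centralizer_iff]
  intro g hg
  rw [mem_bot.1 hg, one_mul, mul_one])

/-- Every element of `T - Q` inverts `x` modulo `Q`. -/
theorem inv_mod {a : G} (ha : a ∈ T) (ha' : a ∉ Q) : x * (a * x * a⁻¹) ∈ Q := by
  have h1 := h.mul_inv_mem ha ha' h.um h.un
  have : x * (a * x * a⁻¹) = x * (a * u⁻¹) * x⁻¹ * (a * u⁻¹)⁻¹ := by
    calc _ = x * (a * u⁻¹) * (u * x * u⁻¹) * (a * u⁻¹)⁻¹ := by group
      _ = _ := by rw [h.inv]
  rw [this]
  exact Q.mul_mem (h.xmem h1) (inv_mem h1)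

theorem symm : Pb T Q x⁻¹ u r :=
  { h with
    ox := by rw [orderOf_inv, h.ox]
    xn := inv_mem h.xn
    inv := by rw [inv_inv, ← conj_inv, h.inv, inv_inv] }

theorem cj [Finite G] (g : G) : Pb (g •ᶜ T) (g •ᶜ Q) (g * x * g⁻¹) (g * u * g⁻¹) r where
  two := pg_cj h.two g
  le := map_mono h.le
  idx := by rw [relIndex_map_map_of_injective _ _ (MulAut.conj g).injective, h.idx]
  um := cj_mem h.um
  un := fun e => h.un (by simpa [mul_assoc] using mem_cj.1 e)
  ox := (MulEquiv.orderOf_eq (MulAut.conj g) x).trans h.ox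
  r35 := h.r35
  xn := by rw [norm_cj]; exact cj_mem h.xn
  inv := by
    calc _ = g * (u * x * u⁻¹) * g⁻¹ := by group
      _ = _ := by rw [h.inv]; group
  ch := fun c hc => mem_cj.2 (h.ch (mem_centralizer_iff.2 fun q hq => by
    have := mem_centralizer_iff.1 hc _ (cj_mem (g := g) hq)
    calc q * (g⁻¹ * c * g) = g⁻¹ * (g * q * g⁻¹ * c) * g := by group
      _ = _ := by rw [this]; group))

end Pb

end CfsgLib.E6
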