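import Mathlib

/-! Frobenius subgroups of small symmetric groups: finite checks. -/

set_option autoImplicit false
set_option maxRecDepth 100000

namespace CfsgLib.E6.KnC

open Equiv

def z5 : Perm (Fin 5) := swap 0 1 * swap 2 3
def q5 : Perm (Fin 5) := swap 0 2 * swap 1 3
def t5 : Perm (Fin 5) := swap 0 2 * swap 0 1
def c5 : Perm (Fin 5) := swap 0 4 * swap 0 3 * swap 0 2 * swap 0 1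
def u5 : Perm (Fin 5) := swap 1 3 * swap 1 4 * swap 1 2
def i5 : Perm (Fin 5) := swap 1 4 * swap 2 3
def z6 : Perm (Fin 6) := swap 0 1 * swap 2 3
def q6 : Perm (Fin 6) := swap 0 2 * swap 1 3
def t6 : Perm (Fin 6) := swap 0 2 * swap 0 1
def c6 : Perm (Fin 6) := swap 0 4 * swap 0 3 * swap 0 2 * swap 0 1
def u6 : Perm (Fin 6) := swap 1 3 * swap 1 4 * swap 1 2
def w6 : Perm (Fin 6) := swap 0 3 * swap 1 4 * swap 2 5 * swap 4 5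
def s6 : Perm (Fin 6) := swap 0 3 * swap 1 4

theorem b5 : Perm.sign z5 = 1 ∧ Perm.sign q5 = 1 ∧ Perm.sign t5 = 1 ∧ Perm.sign c5 = 1 ∧
    Perm.sign i5 = 1 ∧ t5 ^ 3 = 1 ∧ t5 ≠ 1 ∧ c5 ^ 5 = 1 ∧ c5 ≠ 1 ∧ z5 ≠ 1 ∧ z5 * q5 = q5 * z5 ∧
    u5 ^ 4 = 1 ∧ u5 ^ 2 ≠ 1 ∧ (c5 * (1 * c5 * 1⁻¹)) ^ 5 = 1 ∧ c5 * (1 * c5 * 1⁻¹) ≠ 1 ∧
    i5 * i5 = 1 ∧ i5 * c5 * i5⁻¹ = c5⁻¹ := by
  decide +kernel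

theorem b6 : Perm.sign z6 = 1 ∧ Perm.sign q6 = 1 ∧ Perm.sign t6 = 1 ∧ Perm.sign c6 = 1 ∧
    Perm.sign w6 = 1 ∧ Perm.sign s6 = 1 ∧ t6 ^ 3 = 1 ∧ t6 ≠ 1 ∧ c6 ^ 5 = 1 ∧ c6 ≠ 1 ∧ z6 ≠ 1 ∧
    z6 * q6 = q6 * z6 ∧ u6 ^ 4 = 1 ∧ u6 ^ 2 ≠ 1 ∧ (c6 * (1 * c6 * 1⁻¹)) ^ 5 = 1 ∧
    c6 * (1 * c6 * 1⁻¹) ≠ 1 ∧ w6 ^ 4 = 1 ∧ w6 ^ 2 ≠ 1 ∧ (t6 * (s6 * t6 * s6⁻¹)) ^ 5 = 1 ∧
    t6 * (s6 * t6 * s6⁻¹) ≠ 1 := by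
  decide +kernel

theorem v5 : ∀ x : Perm (Fin 5), z5 * x = x * z5 → q5 * x = x * q5 →
    x ^ 2 = 1 ∧ z5 * (t5 * x * t5⁻¹) = t5 * x * t5⁻¹ * z5 ∧ q5 * (t5 * x * t5⁻¹) = t5 * x * t5⁻¹ * q5 ∧
      (t5 * x = x * t5 → x = 1) := by
  decide +kernel

theorem v6 : ∀ x : Perm (Fin 6), z6 * x = x * z6 → q6 * x = x * q6 → Perm.sign x = 1 →
    x ^ 2 = 1 ∧ z6 * (t6 * x * t6⁻¹) = t6 * x * t6⁻¹ * z6 ∧ q6 * (t6 * x * t6⁻¹) = t6 * x * t6⁻¹ * q6 ∧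
      (t6 * x = x * t6 → x = 1) := by
  decide +kernel

theorem f5 : ∀ x : Perm (Fin 5), c5 * x = x * c5 →
    x ^ 15 = 1 ∧ c5 * (u5 * x * u5⁻¹) = u5 * x * u5⁻¹ * c5 ∧ (u5 ^ 2 * x = x * u5 ^ 2 → x = 1) := by
  decide +kernel

theorem f6 : ∀ x : Perm (Fin 6), c6 * x = x * c6 →
    x ^ 15 = 1 ∧ c6 * (u6 * x * u6⁻¹) = u6 * x * u6⁻¹ * c6 ∧ (u6 ^ 2 * x = x * u6 ^ 2 → x = 1) := by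
  decide +kernel

theorem e6 : ∀ x : Perm (Fin 6), t6 * x = x * t6 → Perm.sign x = 1 →
    x ^ 15 = 1 ∧ t6 * (w6 * x * w6⁻¹) = w6 * x * w6⁻¹ * t6 ∧ (w6 ^ 2 * x = x * w6 ^ 2 → x = 1) := by
  decide +kernel

end CfsgLib.E6.KnC
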