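import Cfsg.Agent.Lib.E6.RkA

/-!
# Reduction to characteristic two type
-/

set_option autoImplicit false

namespace CfsgLib.E6

open Subgroup Cfsg CfsgLib.FT.BGN CfsgLib.Cit CfsgLib.H1 CfsgLib.SE CfsgLib.Sig CfsgLib.Cop

universe u

namespace Rk

variable {G : Type*} [Group G] [Finite G]

theorem oc_conj_bot {t : G} (g : G) : oc (g * t * g⁻¹) = ⊥ ↔ oc t = ⊥ := by
  rw [oc_conj, map_eq_bot_iff_of_injective _ (MulAut.conj g).injective]

theorem exists_fused (hs : IsSimpleGroup G) (hna : ¬ IsMulCommutative G) {S : Subgroup G}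
    (hS : IsSylowIn 2 S ⊤) {z : G} (hz : IsInv z) (h : S ≤ 𝐂[z]) :
    ∃ g, g * z * g⁻¹ ∈ S ∧ g * z * g⁻¹ ≠ z := by
  have : Fact (Nat.Prime 2) := ⟨Nat.prime_two⟩
  obtain ⟨g, hg, hne⟩ : ∃ g, Commute z (g * z * g⁻¹) ∧ g * z * g⁻¹ ≠ z := by
    by_contra h
    push Not at h
    exact BSW.not_inZStar_of_simple hna hz.orderOf (Blk.glauberman_zstar G z hz.orderOf h)
  obtain ⟨c, hc, h1⟩ := (hS.mono h le_top).exists_conj_le (Invol.isPGroup_zpowers (hz.conj g).1)
    (zpowers_le_of_mem (mem_centralizer_singleton_iff.2 hg.eq.symm))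
  have e : c * g * z * (c * g)⁻¹ = c * (g * z * g⁻¹) * c⁻¹ := by group
  refine ⟨c * g, e ▸ h1 (mem_map_of_mem _ (mem_zpowers _)), fun h2 => hne ?_⟩
  rw [e] at h2
  simpa using h2.trans (conj_eq_of_mem_cent hc).symm

theorem inverts (h6 : O6 G) {O : Subgroup G} (hO : Odd (Nat.card O)) {v : G} (hv : Two v)
    (h1 : v * v ≠ 1) (hn : v ∈ 𝐍(O)) (hc : O ≤ 𝐂[v * v]) {y : G} (hy : y ∈ O) :
    v * y * v⁻¹ = y⁻¹ := by
  let φ : O →* O :=
    { toFun := fun k => ⟨v * k * v⁻¹, cmem hn k.2⟩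
      map_one' := by simp
      map_mul' := fun a b => Subtype.ext (by simp) }
  have h2 : MonoidHom.FixedPointFree φ := fun k hk => Subtype.ext (by
    have e : (k : G) * v = v * k := (mul_inv_eq_iff_eq_mul.1 (congrArg Subtype.val hk)).symm
    rcases h6.odd_cases (odd_orderOf_of_mem hO k.2) with a | a | a
    · exact a
    · exact absurd (h6.sq_of_comm3 a hv e) h1
    · exact absurd (by rw [h6.eq_one_of_comm5 a hv e, mul_one]) h1)
  have h3 : Function.Involutive φ := fun k => Subtype.ext (by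
    change v * (v * k * v⁻¹) * v⁻¹ = k
    calc _ = v * v * k * (v * v)⁻¹ := by group
      _ = k := by rw [← mem_centralizer_singleton_iff.1 (hc k.2), mul_inv_cancel_right])
  exact congrArg Subtype.val (congrFun (h2.coe_eq_inv_of_involutive h3) ⟨y, hy⟩)

theorem four_cases (h8 : ¬ ∃ B : Subgroup G, E8 B) {a b e : G} (ha : IsInv a) (hb : IsInv b)
    (hne : a ≠ b) (hc : a * b = b * a) (he : e * e = 1) (h1 : e ∈ 𝐂[a]) (h2 : e ∈ 𝐂[b]) :
    e = 1 ∨ e = a ∨ e = b ∨ e = a * b := by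
  by_contra h
  rw [not_or] at h
  obtain ⟨B, hB, -⟩ := exists_E8_three ha hb hne hc ⟨he, h.1⟩ h1 h2 h.2
  exact h8 ⟨B, hB⟩

theorem central_case (hs : IsSimpleGroup G) (hna : ¬ IsMulCommutative G) (h6 : O6 G)
    (h8 : ¬ ∃ B : Subgroup G, E8 B) {S : Subgroup G} (hS : IsSylowIn 2 S ⊤)
    (hc : ∀ e ∈ S, e * e = 1 → S ≤ 𝐂[e]) :
    IsMulCommutative S ∨ ∀ t : G, orderOf t = 2 → oc t = ⊥ := by
  have : Fact (Nat.Prime 2) := ⟨Nat.prime_two⟩
  have hcm : ∀ e ∈ S, e * e = 1 → ∀ s ∈ S, s * e = e * s := fun e a b s c =>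
    mem_centralizer_singleton_iff.1 (hc e a b c)
  by_cases hab : ∀ s ∈ S, s * s = 1
  · exact Or.inl ⟨⟨fun a b => Subtype.ext (comm_of_sq hab a.2 b.2)⟩⟩
  push Not at hab
  obtain ⟨u, hu, h1⟩ := hab
  have ha : IsInv (u * u) := ⟨h6.four hS.isPGroup hu, h1⟩
  have haS := mul_mem hu hu
  by_cases h0 : oc (u * u) = ⊥
  · refine Or.inr fun t ht => ?_
    have hi : IsInv t := ⟨mul_self_of_orderOf ht, ne_one_of_orderOf ht⟩
    obtain ⟨m, -, h2⟩ := hS.exists_conj_le (Invol.isPGroup_zpowers hi.1) le_top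
    have h3 : m * t * m⁻¹ ∈ S := h2 (mem_map_of_mem _ (mem_zpowers t))
    obtain ⟨g, h4, h5⟩ := exists_fused hs hna hS ha (hc _ haS ha.1)
    have key : ∀ e ∈ S, IsInv e → oc e = ⊥ ∨ e = u * u * (g * (u * u) * g⁻¹) := fun e a b => by
      rcases four_cases h8 ha (ha.conj g) h5.symm (hcm _ h4 (ha.conj g).1 _ haS) b.1
        (hc _ haS ha.1 a) (hc _ h4 (ha.conj g).1 a) with k | k | k | k
      · exact absurd k b.2
      · exact Or.inl (k ▸ h0)
      · exact Or.inl (k ▸ (oc_conj_bot g).2 h0)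
      · exact Or.inr k
    refine (oc_conj_bot m).1 ((key _ h3 (hi.conj m)).elim id fun e => ?_)
    obtain ⟨k, h7, h9⟩ := exists_fused hs hna hS (hi.conj m) (hc _ h3 (hi.conj m).1)
    exact (oc_conj_bot k).1 ((key _ h7 ((hi.conj m).conj k)).resolve_right fun e' =>
      h9 (e'.trans e.symm))
  have hO : Odd (Nat.card (oc (u * u))) := Nat.coprime_two_right.1 (oc_coprime _)
  have hn : S ≤ 𝐍(oc (u * u)) := (hc _ haS ha.1).trans (le_normalizer_oc _)
  have h2 : ∀ w ∈ S, w * w = 1 → oc (u * u) ≤ 𝐂[w] := fun w hw h2 y hy => by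
    have e : u * w * (u * w) = u * u := by
      rw [mul_assoc, ← mul_assoc w, ← hcm w hw h2 u hu, mul_assoc, h2, mul_one]
    have e1 := inverts h6 hO (two_of_mem hS.isPGroup hu) h1 (hn hu) (oc_le _) hy
    have e2 := inverts h6 hO (two_of_mem hS.isPGroup (mul_mem hu hw)) (e ▸ h1)
      (hn (mul_mem hu hw)) (e ▸ oc_le _) hy
    rw [mem_centralizer_singleton_iff]
    calc y * w = u⁻¹ * (u * y * u⁻¹) * (u * w) := by group
      _ = w * y := by rw [e1, ← e2]; group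
  have h3 : ∀ s ∈ S, s * s ≠ 1 → ∀ y ∈ oc (u * u), s * y * s⁻¹ = y⁻¹ := fun s a b y c =>
    inverts h6 hO (two_of_mem hS.isPGroup a) b (hn a)
      (h2 _ (mul_mem a a) (h6.four hS.isPGroup a)) c
  obtain ⟨⟨y, hy⟩, hy1⟩ := ne_bot_iff_exists_ne_one.1 h0
  refine Or.inl ⟨⟨fun a b => Subtype.ext ?_⟩⟩
  change (a : G) * b = b * a
  by_cases h4 : (a : G) * a = 1
  · exact (hcm _ a.2 h4 _ b.2).symm
  by_cases h5 : (b : G) * b = 1
  · exact hcm _ b.2 h5 _ a.2
  have h7 : (a : G) * b * (a * b) = 1 := by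
    by_contra h7
    have e1 := h3 _ (mul_mem a.2 b.2) h7 y hy
    have e2 : (a : G) * b * y * ((a : G) * b)⁻¹ = y := by
      calc _ = a * (b * y * (b : G)⁻¹) * (a : G)⁻¹ := by group
        _ = y := by rw [h3 _ b.2 h5 y hy, ← conj_inv, h3 _ a.2 h4 y hy, inv_inv]
    exact hy1 (Subtype.ext (eq_one_of_two_of_odd (two_of_sq
      (eq_inv_iff_mul_eq_one.1 (e2.symm.trans e1))) (odd_orderOf_of_mem hO hy)))
  exact mul_left_cancel ((hcm _ (mul_mem a.2 b.2) h7 _ a.2).trans (mul_assoc _ _ _))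

theorem n4_of_four {S U : Subgroup G} (hS : IsPGroup 2 S) (hUS : U ≤ S) (hU : Nat.card U = 4)
    (hUe : IsElementaryAbelian 2 U) (hUn : S ≤ 𝐍(U)) : ∃ z u, N4 S z u := by
  have : Fact (Nat.Prime 2) := ⟨Nat.prime_two⟩
  obtain ⟨⟨z, hz⟩, hz1⟩ := ne_bot_iff_exists_ne_one.1 (inf_centralizer_ne_bot_of_isNilpotent
    hS.isNilpotent hUS hUn fun h0 => by simp [h0] at hU)
  have hzi : IsInv z := ⟨ea_sq hUe hz.1, fun e => hz1 (Subtype.ext e)⟩
  obtain ⟨u, hu, h9⟩ := SetLike.not_le_iff_exists.1 fun h9 : U ≤ zpowers z => by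
    have := card_le_of_le h9
    rw [hzi.card_zpowers] at this
    omega
  have hui : IsInv u := ⟨ea_sq hUe hu, fun e => h9 (e ▸ one_mem _)⟩
  have hne : z ≠ u := fun e => h9 (e ▸ mem_zpowers _)
  have hc := le_cent_of_mem hz.2
  refine ⟨z, u, hUS hz.1, hUS hu, hzi, hui, hne, hc, fun s hs => ?_⟩
  have h10 : zpowers z ⊔ zpowers u = U := eq_of_le_of_card_ge
    (sup_le (zpowers_le_of_mem hz.1) (zpowers_le_of_mem hu)) (hU.le.trans (four_le_card hzi hui hne))
  rcases mem_four hzi.1 hui.1 (ea_comm hUe hz.1 hu) (h10.ge (cmem (hUn hs) hu)) with e | e | e | e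
  · exact absurd e (hui.conj s).2
  · exact absurd (by simpa using (conj_eq_of_mem_cent (hc hs)).trans e.symm) hne
  · exact Or.inl e
  · exact Or.inr e

theorem exists_n4 (h6 : O6 G) {S : Subgroup G} (hS : IsPGroup 2 S) {t : G} (htS : t ∈ S)
    (ht : IsInv t) (h : ¬ S ≤ 𝐂[t]) : ∃ z u, N4 S z u := by
  have : Fact (Nat.Prime 2) := ⟨Nat.prime_two⟩
  rcases PGrp.isCyclic_or_isDQSD_or_exists_normal_card_sq hS with
    h3 | ⟨-, n, x, y, h3, h4, h5, -⟩ | ⟨E, hE, h3, h4⟩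
  · exact absurd (fun s hs => mem_centralizer_singleton_iff.2 (congrArg Subtype.val
      (mul_comm' (⟨s, hs⟩ : S) ⟨t, htS⟩))) h
  · have h7 := h6.subgroup S x
    rw [h5] at h7
    obtain rfl : n = 2 := by
      by_contra h9
      have : 2 ^ 3 ≤ 2 ^ n := Nat.pow_le_pow_right (by norm_num) (by omega)
      omega
    obtain ⟨z, hz, hzi⟩ := exists_inv_center hS fun e => ht.2 (mem_bot.1 (e ▸ htS))
    have hc := le_cent_of_mem hz.2
    have hzt := (mem_centralizer_singleton_iff.1 (hc htS)).symm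
    have h9 : Nat.card ↥(zpowers z ⊔ zpowers t) = 4 := le_antisymm
      (card_le_four fun x hx => mem_four hzi.1 ht.1 hzt hx)
      (four_le_card hzi ht fun e => h (e ▸ hc))
    have h10 : zpowers z ⊔ zpowers t ≤ S := sup_le (zpowers_le_of_mem hz.1) (zpowers_le_of_mem htS)
    refine n4_of_four hS h10 h9 (isElementaryAbelian_four hzi.1 ht.1 hzt) ?_
    have h11 := card_mul_relIndex h10
    rw [h9, h4] at h11
    exact (normal_subgroupOf_iff_le_normalizer h10).1 (normal_of_index_eq_two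
      (show (zpowers z ⊔ zpowers t).relIndex S = 2 by omega))
  · refine n4_of_four hS (map_subtype_le E)
      (by rw [card_map_of_injective S.subtype_injective, h4]; rfl)
      (isElementaryAbelian_map h3 S.subtype) ?_
    have h5 := map_normalizer_le' (le_normalizer_of_normal (H := E) (K := ⊤)) S.subtype
    rwa [← MonoidHom.range_eq_map, range_subtype] at h5

theorem dihedral_case (hs : IsSimpleGroup G) (hna : ¬ IsMulCommutative G) (h6 : O6 G)
    (h8 : ¬ ∃ B : Subgroup G, E8 B) {S : Subgroup G} (hS : IsSylowIn 2 S ⊤) {z u : G}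
    (hN : N4 S z u) (h : ¬ S ≤ 𝐂[u]) :
    ∃ a b : G, a * a = 1 ∧ b * b = 1 ∧ IsSylowIn 2 (zpowers a ⊔ zpowers b) ⊤ := by
  have : Fact (Nat.Prime 2) := ⟨Nat.prime_two⟩
  have hzu : z ∈ 𝐂[u] := mem_centralizer_singleton_iff.2 hN.comm
  have huu : u ∈ 𝐂[u] := mem_centralizer_singleton_iff.2 rfl
  have hzc : ∀ s ∈ S, s * z = z * s := fun s a => mem_centralizer_singleton_iff.1 (hN.cent a)
  have hU : ∀ e ∈ S, e ∈ 𝐂[u] → e * e = 1 → ∀ s ∈ S, s ∉ 𝐂[u] → s * e * s⁻¹ = e →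
      e = 1 ∨ e = z := fun e a b c s d k l => by
    rcases four_cases h8 hN.zi hN.ui hN.ne hN.comm c (hN.cent a) b with m | m | m | m
    · exact Or.inl m
    · exact Or.inr m
    · exact absurd (mem_cent_of_conj_eq (m ▸ l)) k
    · rw [m, ← conj_mul, conj_eq_of_mem_cent (hN.cent d)] at l
      exact absurd (mem_cent_of_conj_eq (mul_left_cancel l)) k
  have hout : ∀ s ∈ S, s ∉ 𝐂[u] → s * s = 1 ∨ s * s = z := fun s a b =>
    hU _ (mul_mem a a) (hN.mul_mem_cent a a b b) (h6.four hS.isPGroup a) s a b (by group)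
  obtain ⟨t, htS, ht, htt⟩ : ∃ t ∈ S, t ∉ 𝐂[u] ∧ t * t = 1 := by
    obtain ⟨s, a, b⟩ := SetLike.not_le_iff_exists.1 h
    rcases hout s a b with e | e
    · exact ⟨s, a, b, e⟩
    refine ⟨u * s, mul_mem hN.um a, fun k => b ((Subgroup.mul_mem_cancel_left _ huu).1 k), ?_⟩
    calc _ = u * (s * u * s⁻¹) * (s * s) := by group
      _ = 1 := by rw [hN.conj' a b, e, hN.comm, hN.ui.mul_mul, hN.zi.1]
  have hti : t⁻¹ = t := inv_eq_of_mul_eq_one_right htt
  have hsq : ∀ s ∈ S, s * s = 1 ∨ s * s = z := fun c a => by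
    by_cases b : c ∈ 𝐂[u]
    swap
    · exact hout c a b
    have h4 := h6.four hS.isPGroup a
    refine hU _ (mul_mem a a) (mul_mem b b) h4 t htS ht ?_
    have e : t * c * t⁻¹ = c⁻¹ * (c * t * (c * t)) := by rw [hti]; group
    rw [← conj_mul, e, ← inv_eq_of_mul_eq_one_right h4]
    rcases hout _ (mul_mem a htS) (fun k => ht ((Subgroup.mul_mem_cancel_left _ b).1 k))
      with k | k <;> rw [k]
    · group
    · rw [mul_assoc, ← mul_assoc z, ← hzc _ (inv_mem a), mul_assoc, hN.zi.1]; group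
  obtain ⟨g, hwS, hw⟩ := exists_fused hs hna hS hN.zi hN.cent
  have hwi := hN.zi.conj g
  have hSg := (hS.map_conj_of_mem_normalizer (g := g) (le_normalizer (mem_top g))).mono
    (map_le_cent hN.cent g) le_top
  set w := g * z * g⁻¹ with hwdef
  have hN' : N4 S z w := ⟨hN.zm, hwS, hN.zi, hwi, hw.symm, hN.cent, fun s a => by
    have e : s * w * s⁻¹ = s * w * (s * w) * w⁻¹ * (s * s)⁻¹ := by group
    rw [e, hwi.inv_eq]
    rcases hsq _ (mul_mem a hwS) with k | k <;> rcases hsq s a with l | l <;> rw [k, l]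
    · left; group
    · right; rw [hN.zi.inv_eq, one_mul, hzc w hwS]
    · right; group
    · left; rw [← hzc w hwS]; group⟩
  obtain ⟨k, hk, h1⟩ := hSg.exists_conj_le (hS.isPGroup.to_inf_left (K := 𝐂[w])) inf_le_right
  have h2 : Nat.card ↥(S ⊓ 𝐂[w]) ≤ 4 := card_le_four fun c hc => by
    refine four_cases h8 hN.zi hwi hw.symm hN'.comm ((hsq c hc.1).elim id fun e => ?_)
      (hN.cent hc.1) hc.2
    obtain ⟨s, a, b⟩ := h1 (mem_map_of_mem _ hc)
    change g * s * g⁻¹ = k * c * k⁻¹ at b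
    have e1 : g * (s * s) * g⁻¹ = k * z * k⁻¹ := by rw [← conj_mul, b, conj_mul, e]
    rcases hsq s a with l | l <;> rw [l] at e1
    · exact absurd (by rw [← e1]; group) (hN.zi.conj k).2
    · exact absurd (by simpa using (conj_eq_of_mem_cent hk).trans e1) hw
  have h3 := SE.card_inf_mul_relIndex 𝐂[w] S
  have h4 := Nat.mul_le_mul h2 (Nat.le_of_dvd two_pos (hN'.relIndex_dvd le_rfl))
  have h5 := four_le_card hN.zi hN.ui hN.ne
  have h7 := four_le_card_sup (b := t) (by omega : 2 ≤ Nat.card ↥(zpowers z ⊔ zpowers u))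
    fun e => ht (sup_le (zpowers_le_of_mem hzu) (zpowers_le_of_mem huu) e)
  have hu' : u ∈ zpowers u ⊔ zpowers t := mem_sup_left (mem_zpowers u)
  have ht' : t ∈ zpowers u ⊔ zpowers t := mem_sup_right (mem_zpowers t)
  have h9 := card_le_of_le (show zpowers z ⊔ zpowers u ⊔ zpowers t ≤ zpowers u ⊔ zpowers t from
    sup_le (sup_le (zpowers_le_of_mem ((Subgroup.mul_mem_cancel_right _ hu').1
      (hN.conj' htS ht ▸ mul_mem (mul_mem ht' hu') (inv_mem ht')))) le_sup_left) le_sup_right)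
  refine ⟨u, t, hN.ui.1, htt, ?_⟩
  rwa [eq_of_le_of_card_ge (sup_le (zpowers_le_of_mem hN.um) (zpowers_le_of_mem htS) :
    zpowers u ⊔ zpowers t ≤ S) (by omega)]

theorem end_or (hs : IsSimpleGroup G) (hna : ¬ IsMulCommutative G) (h6 : O6 G) :
    End G ∨ ∀ t : G, orderOf t = 2 → oc t = ⊥ := by
  have : Fact (Nat.Prime 2) := ⟨Nat.prime_two⟩
  by_cases h8 : ∃ B : Subgroup G, E8 B
  · obtain ⟨B, hB⟩ := h8
    exact (se_or hs hna h6 hB).imp_left Or.inl
  obtain ⟨S, hS⟩ := IsSylowIn.exists_in (p := 2) (⊤ : Subgroup G)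
  by_cases hc : ∀ e ∈ S, e * e = 1 → S ≤ 𝐂[e]
  · exact (central_case hs hna h6 h8 hS hc).imp_left fun h => Or.inr (Or.inr (Or.inr ⟨S, hS, h⟩))
  push Not at hc
  obtain ⟨t, htS, htt, ht⟩ := hc
  obtain ⟨z, u, hN⟩ := exists_n4 h6 hS.isPGroup htS
    ⟨htt, fun e => ht fun s _ => by rw [e, mem_centralizer_singleton_iff, mul_one, one_mul]⟩ ht
  refine Or.inl (Or.inr (Or.inr (Or.inl (dihedral_case hs hna h6 h8 hS hN fun h => ht ?_))))
  rcases four_cases h8 hN.zi hN.ui hN.ne hN.comm htt (hN.cent htS) (h htS) with e | e | e | e <;>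
    rw [e]
  · exact fun s _ => by rw [mem_centralizer_singleton_iff, mul_one, one_mul]
  · exact hN.cent
  · exact h
  · exact (le_inf le_rfl h).trans hN.cent_mul

end Rk

theorem rk {G : Type u} [Group G] [Finite G] (hs : IsSimpleGroup G)
    (hna : ¬ IsMulCommutative G) (h6 : O6 G) : End G ∨ Ch2 G :=
  haveI : Fact (Nat.Prime 2) := ⟨Nat.prime_two⟩
  (Rk.end_or hs hna h6).imp_right fun h U hU h0 => le_trans (le_inf ((centralizer_le
    (le_pCoreOf le_normalizer le_rfl hU)).trans (centralizer_le_normalizer _)) le_rfl)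
    ((Rk.solC h6).charIn h hU h0)

end CfsgLib.E6
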