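import Cfsg.Agent.Lib.E6.Defs
import Cfsg.Agent.Lib.H5Real
import Cfsg.Agent.Lib.CharBurnside

/-!
# Groups with element orders at most six and `2`-rank at least three
-/

set_option autoImplicit false

namespace CfsgLib.E6.Rk

open Subgroup Cfsg CfsgLib.FT.BGN CfsgLib.Cit CfsgLib.H1 CfsgLib.SE CfsgLib.Sig CfsgLib.Cop

variable {G : Type*} [Group G]

/-- the four-group of the presentation of `S₄` -/
theorem s4 {a y : G} (ha : a * a = 1) (hy : y * y * y = 1)
    (h4 : a * y * (a * y) * (a * y * (a * y)) = 1) :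
    a * y * (a * y) * (y * (a * y * (a * y)) * y⁻¹) = y⁻¹ * (a * y * (a * y)) * y := by
  have hi : a⁻¹ = a := inv_eq_of_mul_eq_one_right ha
  have e1 : a * y * a * y * a = y⁻¹ * a * y⁻¹ := by
    calc _ = a * y * (a * y) * (a * y * (a * y)) * (y⁻¹ * a⁻¹ * y⁻¹) := by group
      _ = _ := by rw [h4, hi, one_mul]
  have e2 : a * y * a = y⁻¹ * a * y⁻¹ * a * y⁻¹ := by
    calc _ = a * y * a * y * a * a⁻¹ * y⁻¹ := by group
      _ = _ := by rw [e1, hi]
  calc _ = a * y * a * (y * y) * (a * y * a) := by group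
    _ = y⁻¹ * a * y⁻¹ * (a * y * a * y * a) := by
      conv_lhs => rw [e2]
      conv_lhs => enter [2]; rw [← e2]
      group
    _ = y⁻¹ * a * (y⁻¹ * y⁻¹ * (y * y * y)) * a * (y⁻¹ * (y * y * y)) := by rw [e1, hy]; group
    _ = _ := by group

theorem card_le_four {H : Subgroup G} {a b c : G} (h : ∀ x ∈ H, x = 1 ∨ x = a ∨ x = b ∨ x = c) :
    Nat.card H ≤ 4 := by
  have h1 := Set.ncard_le_ncard (s := (H : Set G)) (t := {1, a, b, c}) h (Set.toFinite _)
  have h2 := Set.ncard_insert_le 1 ({a, b, c} : Set G)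
  have h3 := Set.ncard_insert_le a ({b, c} : Set G)
  have h4 := Set.ncard_insert_le b ({c} : Set G)
  rw [Set.ncard_singleton] at h4
  change Nat.card (H : Set G) ≤ 4
  rw [Nat.card_coe_set_eq]
  omega

variable [Finite G]

theorem solC (h6 : O6 G) : SolC G := fun t ht => by
  refine isSolvable_of_two_primes Nat.prime_two Nat.prime_three fun r hr hd => ?_
  rcases (h6.subgroup _).prime_cases hr hd with e | e | e
  · exact Or.inl e
  · exact Or.inr e
  · subst e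
    have := Fact.mk hr
    obtain ⟨g, hg⟩ := exists_prime_orderOf_dvd_card' 5 hd
    exact absurd (h6.eq_one_of_comm5 (x := g) (by rw [Subgroup.orderOf_coe, hg])
      (two_of_sq (mul_self_of_orderOf ht)) (mem_centralizer_singleton_iff.1 g.2))
      (ne_one_of_orderOf ht)

/-- An involution outside a self-centralizing `O₂` produces a four-group inside. -/
theorem four_in_core (h6 : O6 G) (hc : 𝐂(pCore 2 G) ≤ pCore 2 G) {t a : G} (ht : IsInv t)
    (hz : ∀ g, g * t * g⁻¹ = t) (ha : a * a = 1) (h : a ∉ pCore 2 G) :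
    ∃ c ∈ pCore 2 G, ∃ d ∈ pCore 2 G, IsInv c ∧ IsInv d ∧ c ≠ d ∧ c * d = d * c ∧
      ¬ (t = c ∨ t = d ∨ t = c * d) := by
  have : Fact (Nat.Prime 2) := ⟨Nat.prime_two⟩
  have hi : a⁻¹ = a := inv_eq_of_mul_eq_one_right ha
  obtain ⟨x, hp, h2, hx⟩ := H5.exists_inverted_of_notMem_pCore (by rw [pow_two, ha]) h
  have ho := hp.odd_of_ne_two h2
  have hx1 : x ≠ 1 := fun e => by rw [e, orderOf_one] at hp; exact Nat.not_prime_one hp
  have h3 : orderOf x = 3 := ((h6.odd_cases ho).resolve_left hx1).resolve_right fun e =>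
    ht.2 (h6.eq_one_of_comm5 e (two_of_sq ht.1) (mul_inv_eq_iff_eq_mul.1 (hz x)))
  have hx3 : x * x * x = 1 := by rw [← pow_three', ← h3, pow_orderOf_eq_one]
  have hQ : IsPGroup 2 (pCore 2 G) := pCore_isPGroup 2
  have hn : (pCore 2 G).Normal := inferInstance
  by_cases hall : ∀ q ∈ pCore 2 G, a * (q * x * q⁻¹) * a⁻¹ = (q * x * q⁻¹)⁻¹
  · refine absurd (eq_one_of_two_of_odd (two_of_mem hQ (hc fun q hq => ?_)) ho) hx1
    have e1 := hall q hq
    have e2 : x * a * x⁻¹ * (q * x * q⁻¹) * (x * a * x⁻¹)⁻¹ = (q * x * q⁻¹)⁻¹ := by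
      calc _ = x * (a * (x⁻¹ * q * x⁻¹⁻¹ * x * (x⁻¹ * q * x⁻¹⁻¹)⁻¹) * a⁻¹) * x⁻¹ := by group
        _ = _ := by rw [hall _ (hn.conj_mem q hq x⁻¹)]; group
    have e3 : a * (x * a * x⁻¹) = x := by
      calc _ = a * x * a⁻¹ * (a * a) * x⁻¹ * (x * x * x) := by rw [hx3]; group
        _ = _ := by rw [hx, ha]; group
    have e4 : Commute x (q * x * q⁻¹) := by
      refine mul_inv_eq_iff_eq_mul.1 ?_
      calc _ = a * (x * a * x⁻¹) * (q * x * q⁻¹) * (a * (x * a * x⁻¹))⁻¹ := by rw [e3]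
        _ = a * (x * a * x⁻¹ * (q * x * q⁻¹) * (x * a * x⁻¹)⁻¹) * a⁻¹ := by group
        _ = _ := by rw [e2, ← conj_inv, e1, inv_inv]
    have e5 : (x⁻¹ * (q * x * q⁻¹)) ^ 3 = 1 := by
      rw [e4.inv_left.mul_pow, conj_pow, inv_pow, pow_three' x, hx3]; group
    have e6 : x⁻¹ * (q * x * q⁻¹) ∈ pCore 2 G := by
      have := mul_mem (hn.conj_mem q hq x⁻¹) (inv_mem hq)
      simpa only [inv_inv, mul_assoc] using this
    have e7 := eq_one_of_two_of_odd (two_of_mem hQ e6) (odd_of_cube e5)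
    rw [inv_mul_eq_one] at e7
    exact (mul_inv_eq_iff_eq_mul.1 e7.symm)
  push Not at hall
  obtain ⟨q, hq, hne⟩ := hall
  set y := q * x * q⁻¹ with hy
  have hy3 : y * y * y = 1 := by rw [hy, conj_mul, conj_mul, hx3]; group
  set c := a * y * (a * y) with hcdef
  have hcQ : c ∈ pCore 2 G := by
    have e1 : c = a * q * a⁻¹ * (a * x * q⁻¹ * (a * x)⁻¹) *
        (a * x * a⁻¹ * (a * a) * q * (a * x * a⁻¹ * (a * a))⁻¹) *
        (a * x * a⁻¹ * (a * a) * x) * q⁻¹ := by rw [hcdef, hy]; group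
    rw [e1, hx, ha, mul_one, inv_mul_cancel, mul_one]
    exact mul_mem (mul_mem (mul_mem (hn.conj_mem _ hq _) (hn.conj_mem _ (inv_mem hq) _))
      (hn.conj_mem _ hq _)) (inv_mem hq)
  have h4 : c * c = 1 := h6.four_of_two (two_of_sq_mem hQ hcQ)
  have hci : IsInv c := ⟨h4, fun e => hne (by
    rw [hi, eq_inv_iff_mul_eq_one, mul_assoc, ← hcdef, e])⟩
  have e1 := s4 ha hy3 h4
  rw [← hcdef] at e1
  have hcd : IsInv (c * (y * c * y⁻¹)) := by rw [e1]; simpa using hci.conj y⁻¹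
  have hne' : c ≠ y * c * y⁻¹ := fun e => hcd.2 (by rw [← e, h4])
  have h5 : t ≠ c := fun e => hne' (by rw [← e, hz])
  refine ⟨c, hcQ, _, hn.conj_mem _ hcQ y, hci, hci.conj y, hne', ?_, ?_⟩
  · rw [← hcd.inv_eq, mul_inv_rev, hci.inv_eq, (hci.conj y).inv_eq]
  · rintro (e | e | e)
    · exact h5 e
    · exact h5 (by rw [← hz y⁻¹, e]; group)
    · exact h5 (by rw [← hz y, e, e1]; group)

theorem e8_ppOf (h6 : O6 G) {t : G} (ht : IsInv t) {T A : Subgroup G}
    (hT : IsSylowIn 2 T 𝐂[t]) (hA : E8 A) (h1 : A ≤ T) :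
    ∃ B, E8 B ∧ B ≤ T ⊓ ppOf {2}ᶜ 𝐂[t] := by
  have : Fact (Nat.Prime 2) := ⟨Nat.prime_two⟩
  have hs := solC h6 t ht.orderOf
  by_cases h2 : A ≤ ppOf {2}ᶜ 𝐂[t]
  · exact ⟨A, hA, le_inf h1 h2⟩
  obtain ⟨a, ha, h3⟩ := SetLike.not_le_iff_exists.1 h2
  have htT : t ∈ T := mem_of_sylow hT ht (mem_centralizer_singleton_iff.2 rfl) hT.le
  have htp : t ∈ ppOf {2}ᶜ 𝐂[t] := center_sylow_le_ppOf hs hT
    (zpowers_le_of_mem (hT.le htT)) (zpowers_le_cent hT.le) (mem_zpowers t)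
  set M : Subgroup G := 𝐂[t] with hM
  set f := QuotientGroup.mk' (piCore {2}ᶜ M) with hf
  have hfs : Function.Surjective f := QuotientGroup.mk'_surjective _
  set Q := piCore {2}ᶜᶜ (M ⧸ piCore {2}ᶜ M) with hQ
  have hQ' : Q = pCore 2 _ := by rw [hQ, compl_compl, pCore_eq_piCore]
  have hc : centralizer (Q : Set (M ⧸ piCore {2}ᶜ M)) ≤ Q :=
    (PiSep.of_isSolvable (π := {2}ᶜᶜ) (G := M ⧸ piCore {2}ᶜ M) inferInstance).centralizer_piCore_le
      (by rw [compl_compl, piCore_quotient_piCore])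
  have hinj : ∀ s : M, (s : G) ∈ T → f s = 1 → (s : G) = 1 := fun s h4 h5 =>
    eq_one_of_two_of_odd (two_of_mem hT.isPGroup h4) (odd_orderOf_of_mem (odd_piCoreOf M)
      ⟨s, (QuotientGroup.eq_one_iff s).1 h5, rfl⟩)
  have h4 := (hT.subgroupOf le_rfl).map f
  rw [subgroupOf_self, map_top_of_surjective f hfs] at h4
  have h5 := pCoreOf_le_sylow h4
  rw [pCoreOf_top] at h5
  obtain ⟨_, hc1, _, hd1, hci, hdi, hne, hcd, h7⟩ := four_in_core ((h6.subgroup M).quot _)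
    (hQ' ▸ hc) (t := f ⟨t, hT.le htT⟩) (a := f ⟨a, hT.le (h1 ha)⟩)
    ⟨by rw [← map_mul, ← map_one f]; exact congrArg f (Subtype.ext ht.1),
      fun e => ht.2 (hinj _ htT e)⟩
    (fun x => by
      obtain ⟨x, rfl⟩ := hfs x
      rw [← map_inv, ← map_mul, ← map_mul]
      exact congrArg f (Subtype.ext (conj_eq_of_mem_cent x.2)))
    (by rw [← map_mul, ← map_one f]; exact congrArg f (Subtype.ext (ea_sq hA.1 ha)))
    fun e => h3 ⟨_, hQ'.ge e, rfl⟩
  obtain ⟨c, hcT, rfl⟩ := h5 hc1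
  obtain ⟨d, hdT, rfl⟩ := h5 hd1
  have key : ∀ s : M, (s : G) ∈ T → IsInv (f s) → IsInv (s : G) := fun s a b =>
    ⟨hinj (s * s) (mul_mem a a) (by rw [map_mul, b.1]),
      fun e => b.2 (by rw [show s = 1 from Subtype.ext e, map_one])⟩
  have hcd' : (c : G) * d = d * c := by
    have := hinj (c * d * (d * c)⁻¹) (T.mul_mem (T.mul_mem hcT hdT) (T.inv_mem (T.mul_mem hdT hcT)))
      (by rw [map_mul, map_inv, map_mul, map_mul, hcd, mul_inv_cancel])
    exact mul_inv_eq_one.1 this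
  refine ⟨_, exists_E8_sup (isElementaryAbelian_four (key c hcT hci).1 (key d hdT hdi).1 hcd')
    (four_le_card (key c hcT hci) (key d hdT hdi) fun e => hne (congrArg f (Subtype.ext e))) ht.1
    (sup_le (zpowers_le_of_mem c.2) (zpowers_le_of_mem d.2)) fun e => h7 ?_,
    sup_le (sup_le (zpowers_le_of_mem ⟨hcT, c, hQ'.ge hc1, rfl⟩)
      (zpowers_le_of_mem ⟨hdT, d, hQ'.ge hd1, rfl⟩)) (zpowers_le_of_mem ⟨htT, htp⟩)⟩
  rw [← map_mul]
  exact ((mem_four (key c hcT hci).1 (key d hdT hdi).1 hcd' e).resolve_left ht.2).imp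
    (fun e => congrArg f (Subtype.ext e)) (Or.imp (fun e => congrArg f (Subtype.ext e))
      fun e => congrArg f (Subtype.ext e))

theorem gd (h6 : O6 G) {t : G} (ht : IsInv t) {A : Subgroup G} (hA : E8 A) (h1 : A ≤ 𝐂[t]) :
    Gd t := by
  have : Fact (Nat.Prime 2) := ⟨Nat.prime_two⟩
  have hC := solC h6
  obtain ⟨T, h2, hT⟩ := IsSylowIn.exists_ge (IsElementaryAbelian.isPGroup hA.1) h1
  obtain ⟨z, u, hN⟩ := exists_N4 hT.isPGroup hA h2
  have htT : t ∈ T := mem_of_sylow hT ht (mem_centralizer_singleton_iff.2 rfl) hT.le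
  obtain ⟨B, hB, h3⟩ := e8_ppOf h6 ht hT hA h2
  refine gd_of hT (fun B a b => (hN.wc_eq hC a b).1) ?_ fun n hn => ?_
  · refine le_trans ?_ le_normalizer
    rw [← (hN.wc_eq hC (A := A ⊔ zpowers t) ⟨isElementaryAbelian_sup hA.1
      (isElementaryAbelian_zpowers (by rw [pow_two, ht.1])) (zpowers_le_cent h1),
      hA.2.trans (card_le_of_le le_sup_left)⟩ (sup_le h2 (zpowers_le_of_mem htT))).1]
    exact oc_le_wc (mem_sup_right (mem_zpowers t)) ht.2
  · refine mem_normalizer_of_map_conj_eq ?_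
    conv_lhs => rw [← (hN.wc_eq hC hB (h3.trans inf_le_left)).1, ← wc_map_conj]
    exact (hN.wc_eq hC (hB.conj n) ((map_mono h3).trans
      ((map_conj_eq_of_mem_normalizer hn.2).le.trans inf_le_left))).1

/-- Every involution of `S` lies in an elementary abelian subgroup of order eight. -/
theorem e8_cent (h6 : O6 G) {S A : Subgroup G} (hS : IsPGroup 2 S) {z u : G} (hN : N4 S z u)
    (hA : E8 A) (h1 : A ≤ S) {t : G} (ht : IsInv t) (htS : t ∈ S) :
    ∃ B, E8 B ∧ B ≤ 𝐂[z] ∧ B ≤ 𝐂[t] := by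
  obtain ⟨B, hB, h2⟩ := hN.exists_E8 hA h1
  have hzu : z ∈ 𝐂[u] := mem_centralizer_singleton_iff.2 hN.comm
  by_cases h3 : t ∈ 𝐂[u]
  · by_cases h4 : t = z ∨ t = u ∨ t = z * u
    · refine ⟨B, hB, h2.trans (inf_le_left.trans hN.cent), h2.trans ?_⟩
      rcases h4 with e | e | e <;> rw [e]
      exacts [inf_le_left.trans hN.cent, inf_le_right, hN.cent_mul]
    · obtain ⟨B, h5, h7, -, h8⟩ := exists_E8_three hN.zi hN.ui hN.ne hN.comm ht (hN.cent htS) h3 h4
      exact ⟨B, h5, h7, h8⟩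
  have key : ∀ c ∈ S, c ∈ 𝐂[u] → IsInv c → c ≠ z → t * c * t⁻¹ = c →
      ∃ B, E8 B ∧ B ≤ 𝐂[z] ∧ B ≤ 𝐂[t] := fun c a b d e g => by
    obtain ⟨B, h5, h7, h8, -⟩ := exists_E8_three hN.zi ht (fun e => h3 (e ▸ hzu))
      (mem_centralizer_singleton_iff.1 (hN.cent htS)).symm d (hN.cent a)
      (mem_centralizer_singleton_iff.2 (mul_inv_eq_iff_eq_mul.1 g).symm) (by
        rintro (k | k | k)
        · exact e k
        · exact h3 (k ▸ b)
        · exact h3 ((Subgroup.mul_mem_cancel_left _ hzu).1 (k ▸ b)))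
    exact ⟨B, h5, h7, h8⟩
  obtain ⟨e, he, h4⟩ := SetLike.not_le_iff_exists.1 fun h4 : B ≤ zpowers z ⊔ zpowers u => by
    have h5 := (hB.2.trans (card_le_of_le h4))
    have h7 := card_le_four fun x hx => mem_four hN.zi.1 hN.ui.1 hN.comm (x := x) hx
    omega
  have hee := ea_sq hB.1 he
  have heS := (h2 he).1
  have heu : e ∈ 𝐂[u] := (h2 he).2
  have h5 : t * e * t ∈ 𝐂[u] := hN.mul_mem_cent (mul_mem htS heS) htS
    (fun k => h3 ((Subgroup.mul_mem_cancel_right _ heu).1 k)) h3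
  have hei : IsInv e := ⟨hee, fun k => h4 (k ▸ one_mem _)⟩
  by_cases h7 : e * t * (e * t) = 1
  · refine key e heS heu hei (fun k => h4 (k ▸ mem_sup_left (mem_zpowers _))) ?_
    rw [ht.inv_eq, ← hei.mul_mul (t * e * t)]
    simpa only [mul_assoc, mul_one] using congrArg (e * ·) h7
  by_cases h8 : e * t * (e * t) = z
  · have huu := hN.ui.1
    refine key (e * u) (mul_mem heS hN.um) (mul_mem heu (mem_centralizer_singleton_iff.2 rfl))
      (isInv_mul hei hN.ui (fun k => h4 (k ▸ mem_sup_right (mem_zpowers _)))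
        (mem_centralizer_singleton_iff.1 heu)) (fun k => h4 ?_) ?_
    · rw [← mul_one e, ← huu, ← mul_assoc, k]
      exact mul_mem_sup (mem_zpowers z) (mem_zpowers u)
    · rw [← conj_mul, hN.conj' htS h3, ht.inv_eq, ← hei.mul_mul (t * e * t), ← mul_assoc e (t * e),
        ← mul_assoc e t, mul_assoc (e * t), h8, mul_assoc, hN.zi.mul_mul]
  refine key _ (mul_mem (mul_mem heS htS) (mul_mem heS htS))
    (by simpa only [mul_assoc] using mul_mem heu h5) ⟨h6.four hS (mul_mem heS htS), h7⟩ h8 ?_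
  have h9 : IsInv (e * t * (e * t)) := ⟨h6.four hS (mul_mem heS htS), h7⟩
  conv_rhs => rw [← h9.inv_eq]
  simp only [mul_inv_rev, ht.inv_eq, hei.inv_eq, mul_assoc, ht.mul_mul, ht.1, mul_one]

theorem se_or (hs : IsSimpleGroup G) (hna : ¬ IsMulCommutative G) (h6 : O6 G) {A : Subgroup G}
    (hA : E8 A) : (∃ M : Subgroup G, IsStronglyEmbedded M) ∨ ∀ t : G, orderOf t = 2 → oc t = ⊥ := by
  have : Fact (Nat.Prime 2) := ⟨Nat.prime_two⟩
  have hC := solC h6
  obtain ⟨S, h1, hS⟩ := IsSylowIn.exists_ge (IsElementaryAbelian.isPGroup hA.1) (le_top : A ≤ ⊤)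
  obtain ⟨z, u, hN⟩ := exists_N4 hS.isPGroup hA h1
  obtain ⟨h2, hWo⟩ := hN.wc_eq hC hA h1
  have hE : ∀ t : G, IsInv t → ∃ B, E8 B ∧ B ≤ 𝐂[t] := fun t ht => by
    obtain ⟨m, -, h4⟩ := hS.exists_conj_le (Invol.isPGroup_zpowers ht.1) le_top
    obtain ⟨B, h5, -, h7⟩ := e8_cent h6 hS.isPGroup hN hA h1 (ht.conj m)
      (h4 (mem_map_of_mem _ (mem_zpowers t)))
    exact ⟨_, h5.conj m⁻¹, by simpa [mul_assoc] using map_le_cent h7 m⁻¹⟩
  have hSW : S ≤ normalizer (wc A : Set G) := fun s hs => mem_normalizer_of_map_conj_eq (by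
    rw [h2, ← wc_map_conj, map_conj_eq_of_mem_normalizer (hN.le_normalizer hs)])
  have h3 : ∀ t ∈ normalizer (wc A : Set G), IsInv t → ∀ B, E8 B → B ≤ centralizer {t} →
      wc B = wc A := fun t ht hi B hB h3 => by
    obtain ⟨m, hm, h4⟩ := (hS.mono hSW le_top).exists_conj_le (Invol.isPGroup_zpowers hi.1)
      (zpowers_le_of_mem ht)
    have h5 : m * t * m⁻¹ ∈ S := h4 (mem_map_of_mem _ (mem_zpowers t))
    obtain ⟨B', h7, h8, h9⟩ := e8_cent h6 hS.isPGroup hN hA h1 (hi.conj m) h5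
    have h10 := (gd h6 (hi.conj m) h7 h9 _ _ (hB.conj m) (map_le_cent h3 m) h7 h9).trans
      (gd h6 hN.zi h7 h8 _ _ h7 h8 hA (h1.trans hN.cent))
    rw [wc_map_conj, ← map_conj_eq_of_mem_normalizer hm] at h10
    exact map_injective (MulAut.conj m).injective h10
  by_cases h0 : wc A = ⊥
  · refine Or.inr fun t ht => ?_
    have hi : IsInv t := ⟨mul_self_of_orderOf ht, ne_one_of_orderOf ht⟩
    obtain ⟨B, hB, h4⟩ := hE t hi
    have h5 := h3 t (by rw [h0]; exact le_normalizer_of_normal (mem_top t)) hi (B ⊔ zpowers t)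
      ⟨isElementaryAbelian_sup hB.1 (isElementaryAbelian_zpowers (by rw [pow_two, hi.1]))
        (zpowers_le_cent h4), hB.2.trans (card_le_of_le le_sup_left)⟩
      (sup_le h4 (zpowers_le_of_mem (mem_centralizer_singleton_iff.2 rfl)))
    exact eq_bot_iff.2 ((oc_le_wc (mem_sup_right (mem_zpowers t)) hi.2).trans (h5.trans h0).le)
  · refine Or.inl ⟨_, isStronglyEmbedded_of (normalizer_ne_top h0 fun e =>
      hN.zi.not_odd (e ▸ mem_top z) hWo) hN.zi (hSW hN.zm) fun v g hv a b => ?_⟩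
    obtain ⟨B, hB, h4⟩ := hE v hv
    have h5 := h3 _ b (hv.conj g) _ (hB.conj g) (map_le_cent h4 g)
    rw [wc_map_conj, h3 v a hv B hB h4] at h5
    exact mem_normalizer_of_map_conj_eq h5

end CfsgLib.E6.Rk
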